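import Groth.Agent.SGAGen20.Points
import Groth.Agent.GrpSchLib.AntiAffine
import Groth.Agent.GrpSchLib.SmoothReduced
import Mathlib.GroupTheory.Solvable
import Mathlib.GroupTheory.Nilpotent
import Mathlib.Algebra.Group.Commutator

/-!
# The derived and lower central series of the points of a group scheme as values of iterated commutator words
-/

set_option backward.isDefEq.respectTransparency false
set_option backward.isDefEq.respectTransparency.types false
set_option linter.unusedSectionVars false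

universe u v

open CategoryTheory Limits AlgebraicGeometry MonoidalCategory CartesianMonoidalCategory MonObj GrpObj
open scoped CategoryTheory.Obj commutatorElement

noncomputable section

namespace Groth.Agent.SGASolv20

theorem commutator_closure {P : Type*} [Group P] (A B : Set P) (hA : ∀ g : P, ∀ a ∈ A, g * a * g⁻¹ ∈ A)
    (hB : ∀ g : P, ∀ b ∈ B, g * b * g⁻¹ ∈ B) :
    ⁅Subgroup.closure A, Subgroup.closure B⁆ = Subgroup.closure (Set.image2 (fun a b => ⁅a, b⁆) A B) := by
  set N := Subgroup.closure (Set.image2 (fun a b => ⁅a, b⁆) A B) with hN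
  refine le_antisymm ?_ ((Subgroup.closure_le _).mpr ?_)
  · have hn : N.Normal := ⟨fun x hx g => by
      induction hx using Subgroup.closure_induction with
      | mem x hx =>
        obtain ⟨a, ha, b, hb, rfl⟩ := hx
        refine Subgroup.subset_closure ⟨g * a * g⁻¹, hA g a ha, g * b * g⁻¹, hB g b hb, ?_⟩
        simp only [commutatorElement_def]
        group
      | one => simp
      | mul a b _ _ iha ihb => simpa [mul_assoc] using mul_mem iha ihb
      | inv a _ iha => rw [show g * a⁻¹ * g⁻¹ = (g * a * g⁻¹)⁻¹ by group]; exact inv_mem iha⟩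
    rw [Subgroup.commutator_le]
    intro a ha b hb
    rw [← QuotientGroup.eq_one_iff (N := N)]
    show QuotientGroup.mk' N ⁅a, b⁆ = 1
    rw [map_commutatorElement, commutatorElement_eq_one_iff_mul_comm]
    have h0 : ∀ a ∈ A, ∀ b ∈ B, Commute (QuotientGroup.mk' N a) (QuotientGroup.mk' N b) := fun a ha b hb =>
      commutatorElement_eq_one_iff_mul_comm.mp (by
        rw [← map_commutatorElement]
        exact (QuotientGroup.eq_one_iff _).mpr (Subgroup.subset_closure ⟨a, ha, b, hb, rfl⟩))
    have h1 : ∀ a ∈ A, Commute (QuotientGroup.mk' N a) (QuotientGroup.mk' N b) := fun a ha => by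
      induction hb using Subgroup.closure_induction with
      | mem x hx => exact h0 a ha x hx
      | one => simp
      | mul x y _ _ ihx ihy => simpa using ihx.mul_right ihy
      | inv x _ ihx => simpa using ihx.inv_right
    induction ha using Subgroup.closure_induction with
    | mem x hx => exact (h1 x hx).eq
    | one => simp
    | mul x y _ _ ihx ihy => simpa using (Commute.mul_left (ihx : Commute _ _) ihy).eq
    | inv x _ ihx => simpa using (Commute.inv_left (ihx : Commute _ _)).eq
  · rintro _ ⟨a, ha, b, hb, rfl⟩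
    exact Subgroup.commutator_mem_commutator (Subgroup.subset_closure ha) (Subgroup.subset_closure hb)

variable {C : Type u} [Category.{v} C] [CartesianMonoidalCategory C] (G : C) [GrpObj G]

/-- Parameters of the iterated commutators of the derived series. -/
def derObj : ℕ → C
  | 0 => G
  | n + 1 => derObj n ⊗ derObj n

/-- The iterated commutators of the derived series. -/
def derWord : (n : ℕ) → (derObj G n ⟶ G)
  | 0 => 𝟙 G
  | n + 1 => (⁅fst (derObj G n) (derObj G n) ≫ derWord n, snd (derObj G n) (derObj G n) ≫ derWord n⁆ :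
      derObj G n ⊗ derObj G n ⟶ G)

/-- Parameters of the iterated commutators of the lower central series. -/
def lcsObj : ℕ → C
  | 0 => G
  | n + 1 => lcsObj n ⊗ G

/-- The iterated commutators of the lower central series. -/
def lcsWord : (n : ℕ) → (lcsObj G n ⟶ G)
  | 0 => 𝟙 G
  | n + 1 => (⁅fst (lcsObj G n) G ≫ lcsWord n, snd (lcsObj G n) G⁆ : lcsObj G n ⊗ G ⟶ G)

variable {G}

theorem comp_commutator {T Y : C} (z : T ⟶ Y) (a b : Y ⟶ G) : z ≫ ⁅a, b⁆ = ⁅z ≫ a, z ≫ b⁆ := by
  simp [commutatorElement_def, MonObj.comp_mul, GrpObj.comp_inv]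

variable {T : C}

theorem comp_derWord_succ (n : ℕ) (z : T ⟶ derObj G n ⊗ derObj G n) :
    z ≫ derWord G (n + 1) = ⁅(z ≫ fst _ _) ≫ derWord G n, (z ≫ snd _ _) ≫ derWord G n⁆ := by
  show z ≫ (⁅fst (derObj G n) (derObj G n) ≫ derWord G n, snd (derObj G n) (derObj G n) ≫ derWord G n⁆ :
    derObj G n ⊗ derObj G n ⟶ G) = _
  rw [comp_commutator, Category.assoc, Category.assoc]

theorem comp_lcsWord_succ (n : ℕ) (z : T ⟶ lcsObj G n ⊗ G) :
    z ≫ lcsWord G (n + 1) = ⁅(z ≫ fst _ _) ≫ lcsWord G n, z ≫ snd _ _⁆ := by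
  show z ≫ (⁅fst (lcsObj G n) G ≫ lcsWord G n, snd (lcsObj G n) G⁆ : lcsObj G n ⊗ G ⟶ G) = _
  rw [comp_commutator, Category.assoc]

theorem conj_derWord : ∀ (n : ℕ) (g : T ⟶ G), ∀ a ∈ Set.range (fun z : T ⟶ derObj G n => z ≫ derWord G n),
    g * a * g⁻¹ ∈ Set.range (fun z : T ⟶ derObj G n => z ≫ derWord G n)
  | 0, g, a, _ => ⟨g * a * g⁻¹, Category.comp_id _⟩
  | n + 1, g, a, ⟨z, hz⟩ => by
    obtain ⟨x, hx⟩ := conj_derWord n g _ ⟨z ≫ fst (derObj G n) (derObj G n), rfl⟩
    obtain ⟨y, hy⟩ := conj_derWord n g _ ⟨z ≫ snd (derObj G n) (derObj G n), rfl⟩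
    refine ⟨lift x y, ?_⟩
    dsimp only at hx hy hz ⊢
    rw [comp_derWord_succ, lift_fst, lift_snd, ← hz, comp_derWord_succ, hx, hy]
    simp only [commutatorElement_def]
    group

theorem derivedSeries_eq : ∀ n : ℕ,
    derivedSeries (T ⟶ G) n = Subgroup.closure (Set.range fun z : T ⟶ derObj G n => z ≫ derWord G n)
  | 0 => by
    rw [derivedSeries_zero, eq_comm, eq_top_iff]
    exact fun g _ => Subgroup.subset_closure ⟨g, Category.comp_id g⟩
  | n + 1 => by
    rw [derivedSeries_succ, derivedSeries_eq n, commutator_closure _ _ (conj_derWord n) (conj_derWord n)]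
    refine congrArg Subgroup.closure ?_
    ext a
    constructor
    · rintro ⟨_, ⟨x, rfl⟩, _, ⟨y, rfl⟩, rfl⟩
      refine ⟨lift x y, ?_⟩
      dsimp only
      rw [comp_derWord_succ, lift_fst, lift_snd]
    · rintro ⟨z, rfl⟩
      refine ⟨_, ⟨z ≫ fst (derObj G n) (derObj G n), rfl⟩, _, ⟨z ≫ snd (derObj G n) (derObj G n), rfl⟩, ?_⟩
      dsimp only
      rw [comp_derWord_succ]

theorem conj_lcsWord : ∀ (n : ℕ) (g : T ⟶ G), ∀ a ∈ Set.range (fun z : T ⟶ lcsObj G n => z ≫ lcsWord G n),
    g * a * g⁻¹ ∈ Set.range (fun z : T ⟶ lcsObj G n => z ≫ lcsWord G n)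
  | 0, g, a, _ => ⟨g * a * g⁻¹, Category.comp_id _⟩
  | n + 1, g, a, ⟨z, hz⟩ => by
    obtain ⟨x, hx⟩ := conj_lcsWord n g _ ⟨z ≫ fst (lcsObj G n) G, rfl⟩
    refine ⟨lift x (g * (z ≫ snd (lcsObj G n) G) * g⁻¹), ?_⟩
    dsimp only at hx hz ⊢
    rw [comp_lcsWord_succ, lift_fst, lift_snd, ← hz, comp_lcsWord_succ, hx]
    simp only [commutatorElement_def]
    group

theorem lowerCentralSeries_eq : ∀ n : ℕ,
    Subgroup.lowerCentralSeries (⊤ : Subgroup (T ⟶ G)) n =
      Subgroup.closure (Set.range fun z : T ⟶ lcsObj G n => z ≫ lcsWord G n)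
  | 0 => by
    rw [eq_comm]
    show _ = (⊤ : Subgroup (T ⟶ G))
    rw [eq_top_iff]
    exact fun g _ => Subgroup.subset_closure ⟨g, Category.comp_id g⟩
  | n + 1 => by
    rw [Subgroup.lowerCentralSeries_succ, lowerCentralSeries_eq n]
    conv_lhs => rw [← Subgroup.closure_univ]
    rw [commutator_closure _ Set.univ (conj_lcsWord n) (fun _ _ _ => trivial)]
    refine congrArg Subgroup.closure ?_
    ext a
    constructor
    · rintro ⟨_, ⟨x, rfl⟩, y, -, rfl⟩
      refine ⟨lift x y, ?_⟩
      dsimp only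
      rw [comp_lcsWord_succ, lift_fst, lift_snd]
    · rintro ⟨z, rfl⟩
      refine ⟨_, ⟨z ≫ fst (lcsObj G n) G, rfl⟩, z ≫ snd (lcsObj G n) G, trivial, ?_⟩
      dsimp only
      rw [comp_lcsWord_succ]

theorem closure_range_eq_bot_iff {Y : C} (w : Y ⟶ G) :
    Subgroup.closure (Set.range fun z : T ⟶ Y => z ≫ w) = ⊥ ↔ ∀ z : T ⟶ Y, z ≫ w = 1 := by
  rw [Subgroup.closure_eq_bot_iff]
  exact ⟨fun h z => h ⟨z, rfl⟩, fun h _ ⟨z, hz⟩ => hz ▸ h z⟩

theorem derivedSeries_eq_bot_iff (n : ℕ) :
    (∀ T : C, derivedSeries (T ⟶ G) n = ⊥) ↔ derWord G n = 1 := by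
  simp only [derivedSeries_eq, closure_range_eq_bot_iff]
  refine ⟨fun h => ?_, fun h T z => by rw [h, MonObj.comp_one]⟩
  simpa using h (derObj G n) (𝟙 _)

theorem lowerCentralSeries_eq_bot_iff (n : ℕ) :
    (∀ T : C, Subgroup.lowerCentralSeries (⊤ : Subgroup (T ⟶ G)) n = ⊥) ↔ lcsWord G n = 1 := by
  simp only [lowerCentralSeries_eq, closure_range_eq_bot_iff]
  refine ⟨fun h => ?_, fun h T z => by rw [h, MonObj.comp_one]⟩
  simpa using h (lcsObj G n) (𝟙 _)

end Groth.Agent.SGASolv20

namespace Groth.Agent.SGASolv20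

open AlgebraicGeometry

variable {k : Type u} [Field k]

/-- Morphisms from a smooth scheme to a separated scheme of finite type are determined by the points with
values in an algebraically closed field. -/
theorem ext_of_geometric_points {X Y : Over (Spec (CommRingCat.of k))} [Smooth X.hom] [IsSeparated Y.hom]
    [LocallyOfFiniteType Y.hom] {Ω : Type u} [Field Ω] [IsAlgClosed Ω] (φ : k →+* Ω) (f g : X ⟶ Y)
    (h : ∀ q : Over.mk (Spec.map (CommRingCat.ofHom φ)) ⟶ X, q ≫ f = q ≫ g) : f = g := by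
  refine GrpSchLib.AntiAffine.eq_of_map_eq φ (Over.OverMorphism.ext ?_)
  let F := Over.pullback (Spec.map (CommRingCat.ofHom φ))
  have : Smooth (F.obj X).hom := inferInstanceAs (Smooth (pullback.snd X.hom _))
  have : IsSeparated (F.obj Y).hom := inferInstanceAs (IsSeparated (pullback.snd Y.hom _))
  have : LocallyOfFiniteType (F.obj X).hom := inferInstanceAs (LocallyOfFiniteType (pullback.snd X.hom _))
  have : LocallyOfFiniteType (F.obj Y).hom := inferInstanceAs (LocallyOfFiniteType (pullback.snd Y.hom _))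
  have : IsReduced (F.obj X).left := have := GrpSchLib.geometricallyReduced_of_smooth (F.obj X).hom
    SGAGen20.isReduced_of_geometricallyReduced (F.obj X).hom
  have hw : (F.map f).left ≫ (F.obj Y).hom = (F.obj X).hom := Over.w _
  have : LocallyOfFiniteType ((F.map f).left ≫ (F.obj Y).hom) := by rw [hw]; infer_instance
  refine ext_of_apply_eq (F.obj Y).hom Set.univ isOpen_univ.isLocallyClosed dense_univ (fun x _ hx => ?_)
    (hw.trans (Over.w (F.map g)).symm)
  obtain ⟨p, rfl⟩ := SGAGen20.exists_point_of_closed hx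
  let q : Over.mk (Spec.map (CommRingCat.ofHom φ)) ⟶ X :=
    Over.homMk (p.left ≫ pullback.fst X.hom (Spec.map (CommRingCat.ofHom φ))) (by
      show (p.left ≫ pullback.fst _ _) ≫ X.hom = Spec.map (CommRingCat.ofHom φ)
      rw [Category.assoc, pullback.condition, ← Category.assoc,
        show p.left ≫ pullback.snd X.hom (Spec.map (CommRingCat.ofHom φ)) = 𝟙 _ from Over.w p, Category.id_comp])
  have hq : p.left ≫ pullback.fst X.hom (Spec.map (CommRingCat.ofHom φ)) ≫ f.left =
      p.left ≫ pullback.fst X.hom (Spec.map (CommRingCat.ofHom φ)) ≫ g.left := by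
    rw [← Category.assoc, ← Category.assoc]
    exact congrArg CommaMorphism.left (h q)
  have e : p ≫ F.map f = p ≫ F.map g := by
    refine Over.OverMorphism.ext (pullback.hom_ext ?_ ?_)
    · simp only [Over.comp_left, F, Over.pullback_map_left, Category.assoc, pullback.lift_fst]
      exact hq
    · exact (Over.w (p ≫ F.map f)).trans (Over.w (p ≫ F.map g)).symm
  rw [← Scheme.Hom.comp_apply, ← Scheme.Hom.comp_apply, ← Over.comp_left, ← Over.comp_left, e]

theorem smooth_derObj (G : Over (Spec (CommRingCat.of k))) [Smooth G.hom] : ∀ n, Smooth (derObj G n).hom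
  | 0 => ‹_›
  | n + 1 => by
    have := smooth_derObj G n
    show Smooth (pullback.fst (derObj G n).hom (derObj G n).hom ≫ (derObj G n).hom)
    infer_instance

theorem smooth_lcsObj (G : Over (Spec (CommRingCat.of k))) [Smooth G.hom] : ∀ n, Smooth (lcsObj G n).hom
  | 0 => ‹_›
  | n + 1 => by
    have := smooth_lcsObj G n
    show Smooth (pullback.fst (lcsObj G n).hom G.hom ≫ (lcsObj G n).hom)
    infer_instance

end Groth.Agent.SGASolv20
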